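import Cfsg.Agent.Blocks.Defect.Principal
import Cfsg.Agent.Blocks.Defect.PrincipalCentralizer
import Cfsg.Agent.Blocks.HeightZero.RegularPair
import Cfsg.Agent.CharExtend.Basic

/-!
# Extensions of principal-block characters

Let `N` be normal in `G` with `G = N C(P)` for a Sylow subgroup `P` of `N`, and let `ψ` restrict
irreducibly to a character `θ` of the principal block of `N`.  Then `g ↦ ψ(g)/θ(1)` modulo `M` is
a homomorphism on `C(P)` trivial on `C_N(P)`; when it is trivial, `ψ` restricts into the principal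
block of every subgroup over `N`.
-/

set_option autoImplicit false
open scoped MonoidAlgebra
open MonoidAlgebra (single)

namespace CfsgLib.Blocks.PrincipalExtension

open Cfsg CfsgLib CfsgLib.Blocks

variable {G : Type*} [Group G] [Fintype G]

/-- Coefficients invariant under conjugation by `N`. -/
def IsInvariantElt (N : Subgroup G) (z : GA G) : Prop :=
  ∀ n ∈ N, ∀ g : G, z.coeff (n * g * n⁻¹) = z.coeff g

theorem IsInvariantElt.comm {N : Subgroup G} {z : GA G} (hz : IsInvariantElt N z) {n : G}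
    (hn : n ∈ N) : single n (1 : ℂ) * z = z * single n 1 := by
  refine ga_ext fun c => ?_
  rw [MonoidAlgebra.coeff_single_mul_apply, MonoidAlgebra.coeff_mul_single_apply, one_mul, mul_one]
  have := hz n hn (n⁻¹ * c)
  rw [mul_inv_cancel_left] at this
  exact this.symm

theorem isInvariantElt_of_comm {N : Subgroup G} {z : GA G}
    (h : ∀ n ∈ N, single n (1 : ℂ) * z = z * single n 1) : IsInvariantElt N z := by
  intro n hn g
  have := congrArg (fun w : GA G => w.coeff (n * g)) (h n hn)
  simp only [MonoidAlgebra.coeff_single_mul_apply, MonoidAlgebra.coeff_mul_single_apply, one_mul,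
    mul_one, inv_mul_cancel_left] at this
  exact this.symm

theorem IsInvariantElt.mul {N : Subgroup G} {z w : GA G} (hz : IsInvariantElt N z)
    (hw : IsInvariantElt N w) : IsInvariantElt N (z * w) :=
  isInvariantElt_of_comm fun n hn => by
    rw [← mul_assoc, hz.comm hn, mul_assoc, hw.comm hn, ← mul_assoc]

theorem isInvariantElt_one (N : Subgroup G) : IsInvariantElt N (1 : GA G) :=
  isInvariantElt_of_comm fun n _ => by rw [one_mul, mul_one]

theorem IsInvariantElt.pow {N : Subgroup G} {z : GA G} (hz : IsInvariantElt N z) (k : ℕ) :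
    IsInvariantElt N (z ^ k) := by
  induction k with
  | zero => rw [pow_zero]; exact isInvariantElt_one N
  | succ k ih => rw [pow_succ]; exact ih.mul hz

/-- `omega ψ` is multiplicative on invariant elements when `ψ` restricts irreducibly to `N`. -/
theorem omega_mul_of_invariant {N : Subgroup G} {ψ : G → ℂ} (hψ : IsIrrCharacter G ψ)
    (hres : IsIrrCharacter N (fun x : N => ψ x)) {z : GA G} (hz : IsInvariantElt N z) (w : GA G) :
    omega ψ (z * w) = omega ψ z * omega ψ w := by
  obtain ⟨n, ρ, hρ, rfl⟩ := hψ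
  obtain ⟨m, σ, hσ, hσχ⟩ := hres
  haveI := hσ
  let ρN : Representation ℂ N (Fin n → ℂ) := ρ.comp N.subtype
  have hchar : Representation.character ρN = σ.character := by
    rw [hσχ]; rfl
  obtain ⟨hm, T, hT⟩ := CharExtend.exists_conj_of_char_eq σ hσ ρN hchar
  subst hm
  -- `T⁻¹ ρ(z) T` commutes with `σ`
  let f : Representation.IntertwiningMap σ σ :=
    { toLinearMap := (↑T⁻¹ : Module.End ℂ (Fin n → ℂ)) * ρ.asAlgebraHom z * ↑T
      isIntertwining' := fun x => by
        show (↑T⁻¹ * ρ.asAlgebraHom z * ↑T : Module.End ℂ (Fin n → ℂ)) * σ x =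
          σ x * (↑T⁻¹ * ρ.asAlgebraHom z * ↑T)
        have hx : ρ (x : G) * ρ.asAlgebraHom z = ρ.asAlgebraHom z * ρ (x : G) := by
          have := congrArg ρ.asAlgebraHom (hz.comm x.2)
          simpa using this
        have hTx : (T : Module.End ℂ (Fin n → ℂ)) * σ x = ρ (x : G) * T := hT x
        have hTx' : σ x * (↑T⁻¹ : Module.End ℂ (Fin n → ℂ)) = ↑T⁻¹ * ρ (x : G) := by
          calc σ x * (↑T⁻¹ : Module.End ℂ (Fin n → ℂ))
              = ↑T⁻¹ * ((T : Module.End ℂ (Fin n → ℂ)) * σ x) * ↑T⁻¹ := by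
                rw [← mul_assoc, Units.inv_mul, one_mul]
            _ = ↑T⁻¹ * ρ (x : G) := by
                rw [hTx, ← mul_assoc, mul_assoc, Units.mul_inv, mul_one]
        calc (↑T⁻¹ * ρ.asAlgebraHom z * ↑T : Module.End ℂ (Fin n → ℂ)) * σ x
            = ↑T⁻¹ * (ρ.asAlgebraHom z * ρ (x : G)) * ↑T := by rw [mul_assoc, hTx]; noncomm_ring
          _ = ↑T⁻¹ * ρ (x : G) * ρ.asAlgebraHom z * ↑T := by rw [← hx]; noncomm_ring
          _ = σ x * ↑T⁻¹ * ρ.asAlgebraHom z * ↑T := by rw [hTx']
          _ = σ x * (↑T⁻¹ * ρ.asAlgebraHom z * ↑T) := by noncomm_ring }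
  obtain ⟨c, hc⟩ :=
    (Representation.IsIrreducible.algebraMap_intertwiningMap_bijective_of_isAlgClosed (ρ := σ)).2 f
  have hzc : ρ.asAlgebraHom z = algebraMap ℂ (Module.End ℂ (Fin n → ℂ)) c := by
    have h1 : algebraMap ℂ (Module.End ℂ (Fin n → ℂ)) c =
        ↑T⁻¹ * ρ.asAlgebraHom z * ↑T := by
      have := congrArg Representation.IntertwiningMap.toLinearMap hc
      exact this
    calc ρ.asAlgebraHom z = ↑T * (↑T⁻¹ * ρ.asAlgebraHom z * ↑T) * ↑T⁻¹ := by
          rw [← mul_assoc, ← mul_assoc, Units.mul_inv, one_mul, mul_assoc, Units.mul_inv, mul_one]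
      _ = algebraMap ℂ (Module.End ℂ (Fin n → ℂ)) c := by
          rw [← h1, ← Algebra.commutes, mul_assoc, Units.mul_inv, mul_one]
  have hn : (n : ℂ) ≠ 0 := by exact_mod_cast (CharExtend.pos_of_irreducible hσ).ne'
  have hom : ∀ y : GA G, omega ρ.character y =
      LinearMap.trace ℂ (Fin n → ℂ) (ρ.asAlgebraHom y) / n := by
    intro y
    rw [omega_apply, ← Finset.sum_div, trace_asAlgebraHom, Representation.char_one,
      Module.finrank_fin_fun]
  rw [hom, hom, hom, map_mul, hzc, ← Algebra.smul_def, map_smul, Algebra.algebraMap_eq_smul_one,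
    map_smul, LinearMap.trace_one, Module.finrank_fin_fun, smul_eq_mul, smul_eq_mul]
  field_simp

/-! ## The congruences -/

section

variable {p : ℕ} {M : Ideal AlgInt} [hMi : M.IsMaximal] {N : Subgroup G}

omit [Fintype G] hMi in
open Classical in
theorem sum_orbit_eq {R : Type*} [AddCommMonoid R] [Fintype G] (S : Finset G)
    (orb : G → Finset G) (hmem : ∀ g y, y ∈ orb g ↔ orb y = orb g) (hS : ∀ g ∈ S, orb g ⊆ S)
    (f : G → R) : ∑ g ∈ S, f g = ∑ O ∈ S.image orb, ∑ y ∈ O, f y := by
  classical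
  rw [← Finset.sum_fiberwise_of_maps_to (t := S.image orb) (g := orb)
    (fun x hx => Finset.mem_image_of_mem _ hx)]
  refine Finset.sum_congr rfl fun O hO => ?_
  obtain ⟨g, hg, rfl⟩ := Finset.mem_image.1 hO
  refine Finset.sum_congr (Finset.ext fun y => ?_) fun _ _ => rfl
  rw [Finset.mem_filter, hmem]
  exact ⟨fun h => h.2, fun h => ⟨hS g hg ((hmem g y).2 h), h⟩⟩

open Classical in
/-- The `N`-conjugates of an element. -/
noncomputable def nOrbit (N : Subgroup G) (g : G) : Finset G :=
  Finset.univ.filter fun y => ∃ n ∈ N, n * g * n⁻¹ = y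

omit hMi in
theorem mem_nOrbit {g y : G} : y ∈ nOrbit N g ↔ ∃ n ∈ N, n * g * n⁻¹ = y := by
  simp [nOrbit]

omit hMi in
theorem self_mem_nOrbit (g : G) : g ∈ nOrbit N g := mem_nOrbit.2 ⟨1, N.one_mem, by simp⟩

omit hMi in
theorem nOrbit_eq_iff (g y : G) : y ∈ nOrbit N g ↔ nOrbit N y = nOrbit N g := by
  refine ⟨fun h => ?_, fun h => h ▸ self_mem_nOrbit y⟩
  obtain ⟨n, hn, rfl⟩ := mem_nOrbit.1 h
  ext z
  rw [mem_nOrbit, mem_nOrbit]
  constructor
  · rintro ⟨m, hm, rfl⟩; exact ⟨m * n, N.mul_mem hm hn, by group⟩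
  · rintro ⟨m, hm, rfl⟩; exact ⟨m * n⁻¹, N.mul_mem hm (N.inv_mem hn), by group⟩

omit hMi in
theorem card_nOrbit (g : G) :
    (nOrbit N g).card = ((Subgroup.centralizer ({g} : Set G)).subgroupOf N).index := by
  classical
  letI : MulAction N G := MulAction.compHom G
    ((ConjAct.toConjAct : G ≃* ConjAct G).toMonoidHom.comp N.subtype)
  have hsm : ∀ (u : N) (x : G), u • x = (u : G) * x * (u : G)⁻¹ := fun u x => by
    show ConjAct.toConjAct (u : G) • x = _
    rw [ConjAct.toConjAct_smul]
  have hstab : MulAction.stabilizer N g = (Subgroup.centralizer ({g} : Set G)).subgroupOf N := by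
    ext u
    rw [MulAction.mem_stabilizer_iff, hsm, Subgroup.mem_subgroupOf,
      Subgroup.mem_centralizer_singleton_iff, mul_inv_eq_iff_eq_mul]
  rw [← hstab, MulAction.index_stabilizer, ← Nat.card_coe_set_eq, ← Nat.card_eq_finsetCard]
  refine Nat.card_congr (Equiv.subtypeEquivRight fun y => ?_)
  rw [mem_nOrbit]
  refine ⟨fun ⟨n, hn, h⟩ => ⟨⟨n, hn⟩, by rw [← h]; exact hsm _ _⟩, fun ⟨u, h⟩ => ⟨u, u.2, ?_⟩⟩
  rw [← h]
  exact (hsm _ _).symm

open Classical in
/-- The indicator of a set as an element of the complex group algebra. -/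
noncomputable def indElt (S : Finset G) : GA G := ofFun fun g => if g ∈ S then 1 else 0

omit hMi in
theorem coeff_indElt (S : Finset G) (g : G) [Decidable (g ∈ S)] :
    (indElt S).coeff g = if g ∈ S then 1 else 0 := by
  rw [indElt, coeff_ofFun]; congr

omit hMi in
theorem omega_indElt (χ : G → ℂ) (S : Finset G) : omega χ (indElt S) = ∑ g ∈ S, χ g / χ 1 := by
  classical
  rw [indElt, omega_ofFun]
  simp [ite_mul, ite_div, ← Finset.sum_filter]

theorem indElt_mem (S : Finset G) : indElt S ∈ localElts M G := fun g => by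
  classical
  rw [coeff_indElt]
  split_ifs
  · exact (localRing M).one_mem
  · exact (localRing M).zero_mem

omit hMi in
theorem isInvariantElt_indElt [N.Normal] (g : G) : IsInvariantElt N (indElt (nOrbit N g)) := by
  classical
  intro n hn y
  rw [coeff_indElt, coeff_indElt]
  refine if_congr ?_ rfl rfl
  rw [nOrbit_eq_iff, nOrbit_eq_iff, (nOrbit_eq_iff y _).1 (mem_nOrbit.2 ⟨n, hn, rfl⟩)]

variable {ψ : IrrCharacter G} {θ : IrrCharacter N}

/-- Reduction of `omega`. -/
noncomputable def bar (M : Ideal AlgInt) [M.IsMaximal] (ψ : IrrCharacter G) (z : GA G) : kres M :=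
  redC M (omega (ψ : G → ℂ) z)

variable (hres : ∀ x : N, (ψ : G → ℂ) x = (θ : N → ℂ) x) (hθ : θ ∈ principalBlock M N)

omit hMi in
include hres in
theorem isIrr_restrict : IsIrrCharacter N (fun x : N => (ψ : G → ℂ) x) := by
  rw [show (fun x : N => (ψ : G → ℂ) x) = (θ : N → ℂ) from funext hres]
  exact θ.2

omit hMi in
include hres in
theorem apply_one_eq : (ψ : G → ℂ) 1 = (θ : N → ℂ) 1 := by
  rw [← hres 1]; rfl

include hres hθ in
/-- On invariant elements supported in `N` only the augmentation matters. -/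
theorem congr_omega_supported {z : GA G} (hzl : IsLocalElt M z) (hzi : IsInvariantElt N z)
    (hzs : ∀ g ∉ N, z.coeff g = 0) :
    Congr M (omega (ψ : G → ℂ) z) (∑ g : G, z.coeff g) := by
  classical
  letI := Fintype.ofFinite N
  set zN : GA N := ofFun (fun n : N => z.coeff n) with hzN
  have hmem : zN ∈ centerO M N :=
    mem_centerO.2 ⟨isCentralElt_ofFun fun x y => hzi y y.2 x, fun n => by
      rw [hzN, coeff_ofFun]; exact hzl _⟩
  have hsame : SameBlock M ((Chars.oneChar N : IrrCharacter N) : N → ℂ) (θ : N → ℂ) := by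
    rw [Chars.oneChar_coe]; exact hθ
  have h := congr_omega_of_sameBlock hmem hsame
  rw [hzN, omega_ofFun, omega_ofFun, Chars.oneChar_coe] at h
  simp only [mul_one, div_one] at h
  have e1 : ∑ n : N, z.coeff n = ∑ g : G, z.coeff g := by
    rw [← Finset.sum_subtype (Finset.univ.filter (· ∈ N)) (by simp) (fun g => z.coeff g),
      Finset.sum_filter]
    exact Finset.sum_congr rfl fun g _ => by split_ifs with hg; · rfl
                                             · exact (hzs g hg).symm
  have e2 : ∑ n : N, z.coeff n * (θ : N → ℂ) n / (θ : N → ℂ) 1 = omega (ψ : G → ℂ) z := by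
    simp only [← hres, Subgroup.coe_one]
    rw [omega_apply, ← Finset.sum_subtype (Finset.univ.filter (· ∈ N)) (by simp)
      (fun g => z.coeff g * (ψ : G → ℂ) g / (ψ : G → ℂ) 1), Finset.sum_filter]
    exact Finset.sum_congr rfl fun g _ => by split_ifs with hg; · rfl
                                             · rw [hzs g hg, zero_mul, zero_div]
  rw [e1, e2] at h
  exact Congr.symm h

omit hMi in
include hres in
theorem omega_pow_of_invariant {z : GA G} (hz : IsInvariantElt N z) (k : ℕ) :
    omega (ψ : G → ℂ) (z ^ k) = omega (ψ : G → ℂ) z ^ k := by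
  induction k with
  | zero => rw [pow_zero, pow_zero]; exact omega_one ψ.2
  | succ k ih => rw [pow_succ', omega_mul_of_invariant ψ.2 (isIrr_restrict hres) hz, ih, pow_succ']

omit hMi in
/-- The `i`-th power of an element supported on `xN` is supported on `x ^ i N`. -/
theorem coeff_pow_eq_zero [N.Normal] {z : GA G} {x : G}
    (hz : ∀ g, z.coeff g ≠ 0 → (g : G ⧸ N) = (x : G ⧸ N)) :
    ∀ (i : ℕ) (g : G), (z ^ i).coeff g ≠ 0 → (g : G ⧸ N) = (x : G ⧸ N) ^ i := by
  intro i
  induction i with
  | zero =>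
    intro g hg
    rw [pow_zero, MonoidAlgebra.one_def, MonoidAlgebra.coeff_single] at hg
    have : g = 1 := by_contra fun h => hg (Finsupp.single_eq_of_ne h)
    rw [this, pow_zero, QuotientGroup.mk_one]
  | succ i ih =>
    intro g hg
    rw [pow_succ, coeff_mul_eq_sum] at hg
    obtain ⟨y, -, hy⟩ := Finset.exists_ne_zero_of_sum_ne_zero hg
    rw [mul_ne_zero_iff] at hy
    have h1 := ih y hy.1
    have h2 := hz _ hy.2
    rw [QuotientGroup.mk_mul, QuotientGroup.mk_inv, inv_mul_eq_iff_eq_mul, h1] at h2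
    rw [h2, pow_succ]

theorem sum_coeff_pow (z : localElts M G) (i : ℕ) :
    redC M (∑ g : G, ((z : GA G) ^ i).coeff g) = redC M (∑ g : G, (z : GA G).coeff g) ^ i := by
  have key : ∀ w : localElts M G,
      augA (kres M) G (reduceHom M G w) = redC M (∑ g : G, (w : GA G).coeff g) := by
    intro w
    rw [augA_apply, redC_of_mem ((localRing M).sum_mem fun g _ => w.2 g)]
    rw [show (⟨∑ g : G, (w : GA G).coeff g, _⟩ : localRing M) =
      ∑ g : G, (⟨(w : GA G).coeff g, w.2 g⟩ : localRing M) from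
        Subtype.ext (by rw [AddSubmonoidClass.coe_finset_sum]), map_sum]
    exact Finset.sum_congr rfl fun g _ => coeff_reduceHom w g
  rw [← key, ← map_pow, ← map_pow, key]
  rfl

variable [N.Normal]

include hres hθ in
/-- Some power of `omega` on an orbit is congruent to that of its size. -/
theorem exists_pow_congr (g : G) : ∃ m : ℕ, 0 < m ∧
    MemLocalRing M (omega (ψ : G → ℂ) (indElt (nOrbit N g)) ^ m) ∧
    redC M (omega (ψ : G → ℂ) (indElt (nOrbit N g)) ^ m) =
      ((nOrbit N g).card : kres M) ^ m := by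
  classical
  refine ⟨orderOf (g : G ⧸ N), orderOf_pos _, ?_⟩
  set z := indElt (nOrbit N g) with hz
  set m := orderOf (g : G ⧸ N) with hm
  have hzi : IsInvariantElt N z := isInvariantElt_indElt g
  have hsupp : ∀ y, z.coeff y ≠ 0 → (y : G ⧸ N) = (g : G ⧸ N) := by
    intro y hy
    rw [hz, coeff_indElt] at hy
    obtain ⟨n, hn, rfl⟩ := mem_nOrbit.1 (of_not_not fun h => hy (if_neg h))
    rw [QuotientGroup.mk_mul, QuotientGroup.mk_mul, QuotientGroup.mk_inv,
      (QuotientGroup.eq_one_iff n).2 hn]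
    simp
  have hzl : z ^ m ∈ localElts M G := pow_mem (indElt_mem _) m
  have hc := congr_omega_supported hres hθ hzl (hzi.pow m) fun y hy => by
    by_contra h
    apply hy
    rw [← QuotientGroup.eq_one_iff, coeff_pow_eq_zero hsupp m y h, hm, pow_orderOf_eq_one]
  rw [omega_pow_of_invariant hres hzi] at hc
  have hloc : MemLocalRing M (∑ y : G, (z ^ m).coeff y) :=
    (localRing M).sum_mem fun y _ => hzl y
  have hloc' : MemLocalRing M (omega (ψ : G → ℂ) z ^ m) := by
    have := (localRing M).add_mem hloc (memLocalRing_of_memLocalIdeal hc)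
    simpa using this
  refine ⟨hloc', ?_⟩
  rw [(redC_eq_redC_iff hloc' hloc).2 hc, sum_coeff_pow ⟨z, indElt_mem _⟩ m]
  congr 1
  have hs : ∑ y : G, z.coeff y = ((nOrbit N g).card : ℂ) := by
    simp [hz, coeff_indElt]
  rw [hs, redC_of_mem (show MemLocalRing M ((nOrbit N g).card : ℂ) by
    simpa using memLocalRing_coe (M := M) ((nOrbit N g).card : AlgInt))]
  exact map_natCast (res M) _

include hres hθ in
theorem memLocalRing_omega_orbit (g : G) :
    MemLocalRing M (omega (ψ : G → ℂ) (indElt (nOrbit N g))) := by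
  obtain ⟨m, hm, hloc, -⟩ := exists_pow_congr hres hθ g
  refine memLocalRing_of_root (P := Polynomial.X ^ m - Polynomial.C (⟨_, hloc⟩ : localRing M))
    (Polynomial.monic_X_pow_sub_C _ hm.ne') ?_
  simp

omit hMi [N.Normal] in
theorem omega_indElt_orbit (g : G) :
    omega (ψ : G → ℂ) (indElt (nOrbit N g)) =
      ((nOrbit N g).card : ℂ) * ((ψ : G → ℂ) g / (ψ : G → ℂ) 1) := by
  rw [omega_indElt, Finset.sum_congr rfl (g := fun _ => (ψ : G → ℂ) g / (ψ : G → ℂ) 1),
    Finset.sum_const, nsmul_eq_mul]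
  intro y hy
  obtain ⟨n, -, rfl⟩ := mem_nOrbit.1 hy
  rw [Chars.isClassFunction_coe ψ g n]

variable [Fact p.Prime] (hM : IsPModular p M) (Q : Subgroup G) (hQN : Q ≤ N)
  (hQ : IsPGroup p Q) (hsyl : ¬ p ∣ (Q.subgroupOf N).index)

omit hMi [N.Normal] in
include hQN hsyl in
theorem not_dvd_card_orbit_of_mem {g : G} (hg : g ∈ Subgroup.centralizer (Q : Set G)) :
    ¬ p ∣ (nOrbit N g).card := by
  rw [card_nOrbit]
  intro hd
  refine hsyl (hd.trans (Subgroup.index_dvd_of_le fun x hx => ?_))
  rw [Subgroup.mem_subgroupOf] at hx ⊢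
  rw [Subgroup.mem_centralizer_singleton_iff]
  exact Subgroup.mem_centralizer_iff.1 hg x hx

omit hMi [N.Normal] in
include hQN hQ in
/-- An orbit of size prime to `p` meets the centralizer of `Q`. -/
theorem exists_mem_centralizer {g : G} (hg : ¬ p ∣ (nOrbit N g).card) :
    ∃ y ∈ nOrbit N g, y ∈ Subgroup.centralizer (Q : Set G) := by
  classical
  letI : MulAction Q (nOrbit N g) :=
    { smul := fun u y => ⟨(u : G) * y * (u : G)⁻¹, by
        obtain ⟨n, hn, h⟩ := mem_nOrbit.1 y.2
        exact mem_nOrbit.2 ⟨u * n, N.mul_mem (hQN u.2) hn, by rw [← h]; group⟩⟩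
      one_smul := fun y => Subtype.ext (by simp [HSMul.hSMul])
      mul_smul := fun u v y => Subtype.ext (by simp [HSMul.hSMul, mul_assoc]) }
  haveI : Finite (nOrbit N g) := inferInstance
  have hcard : ¬ p ∣ Nat.card (nOrbit N g) := by rwa [Nat.card_eq_finsetCard]
  obtain ⟨y, hy⟩ := hQ.nonempty_fixed_point_of_prime_not_dvd_card (nOrbit N g) hcard
  refine ⟨y, y.2, Subgroup.mem_centralizer_iff.2 fun q hq => ?_⟩
  exact mul_inv_eq_iff_eq_mul.1 (congrArg Subtype.val (hy ⟨q, hq⟩))

/-- The reduced ratio `ψ(g)/ψ(1)`. -/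
noncomputable def ratio (M : Ideal AlgInt) [M.IsMaximal] (ψ : IrrCharacter G) (g : G) : kres M :=
  redC M ((ψ : G → ℂ) g / (ψ : G → ℂ) 1)

include hres hθ hM hQN hQ hsyl in
theorem memLocalRing_ratio {g : G} (hg : g ∈ Subgroup.centralizer (Q : Set G)) :
    MemLocalRing M ((ψ : G → ℂ) g / (ψ : G → ℂ) 1) := by
  have h := memLocalRing_omega_orbit hres hθ g
  rw [omega_indElt_orbit] at h
  have hc := not_dvd_card_orbit_of_mem Q hQN hsyl hg
  have hne : ((nOrbit N g).card : ℂ) ≠ 0 := by
    exact_mod_cast fun h0 => hc (by rw [h0]; exact dvd_zero p)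
  have h2 := (localRing M).mul_mem (memLocalRing_inv
    (show MemLocalRing M ((nOrbit N g).card : ℂ) by
      simpa using memLocalRing_coe (M := M) ((nOrbit N g).card : AlgInt))
    fun hi => hc ((memLocalIdeal_natCast_iff hM _).1 hi)) h
  show MemLocalRing M _
  rwa [inv_mul_cancel_left₀ hne] at h2

include hres hθ hM hQN hQ hsyl in
open Classical in
/-- On invariant local elements `omega` only sees the centralizer of `Q`. -/
theorem bar_eq (z : localElts M G) (hz : IsInvariantElt N (z : GA G)) :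
    bar M ψ z = ∑ g ∈ Finset.univ.filter (· ∈ Subgroup.centralizer (Q : Set G)),
      (reduceHom M G z).coeff g * ratio M ψ g := by
  haveI := charP_kres hM
  rw [bar, Finset.sum_filter, omega_apply]
  rw [sum_orbit_eq Finset.univ (nOrbit N) nOrbit_eq_iff (fun g _ => Finset.subset_univ _),
    sum_orbit_eq Finset.univ (nOrbit N) nOrbit_eq_iff (fun g _ => Finset.subset_univ _)]
  have hconst : ∀ g, ∀ y ∈ nOrbit N g, (z : GA G).coeff y = (z : GA G).coeff g := by
    intro g y hy
    obtain ⟨n, hn, rfl⟩ := mem_nOrbit.1 hy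
    exact hz n hn g
  have hval : ∀ g, ∑ y ∈ nOrbit N g, (z : GA G).coeff y * (ψ : G → ℂ) y / (ψ : G → ℂ) 1 =
      (z : GA G).coeff g * omega (ψ : G → ℂ) (indElt (nOrbit N g)) := by
    intro g
    rw [omega_indElt, Finset.mul_sum]
    exact Finset.sum_congr rfl fun y hy => by rw [hconst g y hy]; ring
  have hloc : ∀ O ∈ Finset.univ.image (nOrbit N),
      MemLocalRing M (∑ y ∈ O, (z : GA G).coeff y * (ψ : G → ℂ) y / (ψ : G → ℂ) 1) := by
    intro O hO
    obtain ⟨g, -, rfl⟩ := Finset.mem_image.1 hO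
    rw [hval]
    exact (localRing M).mul_mem (z.2 g) (memLocalRing_omega_orbit hres hθ g)
  rw [redC_of_mem ((localRing M).sum_mem hloc),
    show (⟨_, (localRing M).sum_mem hloc⟩ : localRing M) = ∑ O ∈ (Finset.univ.image (nOrbit N)).attach,
      (⟨_, hloc O.1 O.2⟩ : localRing M) from Subtype.ext (by
        rw [AddSubmonoidClass.coe_finset_sum, Finset.sum_attach
          (f := fun O : Finset G => ∑ y ∈ O, (z : GA G).coeff y * (ψ : G → ℂ) y / (ψ : G → ℂ) 1)]),
    map_sum, ← Finset.sum_attach (f := fun O : Finset G => ∑ y ∈ O,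
      if y ∈ Subgroup.centralizer (Q : Set G) then (reduceHom M G z).coeff y * ratio M ψ y else 0)]
  refine Finset.sum_congr rfl fun O _ => ?_
  obtain ⟨g, -, hg⟩ := Finset.mem_image.1 O.2
  rw [← redC_of_mem (hloc O.1 O.2), ← hg, hval, redC_of_mem
    ((localRing M).mul_mem (z.2 g) (memLocalRing_omega_orbit hres hθ g)),
    show (⟨(z : GA G).coeff g * omega (ψ : G → ℂ) (indElt (nOrbit N g)), _⟩ : localRing M) =
      ⟨_, z.2 g⟩ * ⟨_, memLocalRing_omega_orbit hres hθ g⟩ from rfl, map_mul, ← coeff_reduceHom,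
    ← redC_of_mem]
  have hconst' : ∀ y ∈ nOrbit N g, (reduceHom M G z).coeff y = (reduceHom M G z).coeff g :=
    fun y hy => by
      rw [coeff_reduceHom, coeff_reduceHom]
      exact congrArg (res M) (Subtype.ext (hconst g y hy))
  rw [Finset.sum_congr rfl (g := fun y => (reduceHom M G z).coeff g *
    (if y ∈ Subgroup.centralizer (Q : Set G) then ratio M ψ y else 0)) (fun y hy => by
      rw [hconst' y hy]; split_ifs <;> simp), ← Finset.mul_sum]
  congr 1
  -- a single orbit
  by_cases hd : p ∣ (nOrbit N g).card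
  · have h0 : redC M (omega (ψ : G → ℂ) (indElt (nOrbit N g))) = 0 := by
      obtain ⟨m, hm, hl, hp⟩ := exists_pow_congr hres hθ g
      rw [redC_of_mem hl] at hp
      have hl1 := memLocalRing_omega_orbit hres hθ g
      rw [show (⟨_, hl⟩ : localRing M) = ⟨_, hl1⟩ ^ m from Subtype.ext (by simp), map_pow,
        (CharP.cast_eq_zero_iff (kres M) p _).2 hd, zero_pow hm.ne'] at hp
      rw [redC_of_mem hl1]
      exact eq_zero_of_pow_eq_zero hp
    rw [h0]
    symm
    refine Finset.sum_eq_zero fun y hy => if_neg fun hyC => ?_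
    apply not_dvd_card_orbit_of_mem Q hQN hsyl hyC
    rwa [(nOrbit_eq_iff g y).1 hy]
  · obtain ⟨y, hy, hyC⟩ := exists_mem_centralizer Q hQN hQ hd
    rw [← (nOrbit_eq_iff g y).1 hy] at hd ⊢
    have hr := memLocalRing_ratio hres hθ hM Q hQN hQ hsyl hyC
    have hnat : MemLocalRing M ((nOrbit N y).card : ℂ) := by
      simpa using memLocalRing_coe (M := M) ((nOrbit N y).card : AlgInt)
    rw [omega_indElt_orbit, redC_of_mem ((localRing M).mul_mem hnat hr),
      show (⟨_, (localRing M).mul_mem hnat hr⟩ : localRing M) = ⟨_, hnat⟩ * ⟨_, hr⟩ from rfl,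
      map_mul, show (⟨_, hnat⟩ : localRing M) = ((nOrbit N y).card : localRing M) from
        Subtype.ext (by simp), map_natCast, ← redC_of_mem hr, ← ratio]
    have hfix : ((nOrbit N y).card : kres M) =
        ∑ w ∈ nOrbit N y, if w ∈ Subgroup.centralizer (Q : Set G) then (1 : kres M) else 0 := by
      set a : MonoidAlgebra (kres M) G := reduceHom M G ⟨_, indElt_mem (nOrbit N y)⟩ with ha
      have hac : ∀ w, a.coeff w = if w ∈ nOrbit N y then (1 : kres M) else 0 := by
        intro w
        rw [ha, coeff_reduceHom]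
        have e : (indElt (nOrbit N y)).coeff w = if w ∈ nOrbit N y then 1 else 0 := coeff_indElt _ w
        by_cases hw : w ∈ nOrbit N y
        · rw [if_pos hw] at e ⊢; simp only [e]; exact map_one (res M)
        · rw [if_neg hw] at e ⊢; simp only [e]; exact map_zero (res M)
      have hafix : IsFixedBy a Q := fun s hs w => by
        rw [hac, hac]
        refine if_congr ?_ rfl rfl
        rw [nOrbit_eq_iff, nOrbit_eq_iff,
          (nOrbit_eq_iff w _).1 (mem_nOrbit.2 ⟨s, hQN hs, rfl⟩)]
      calc ((nOrbit N y).card : kres M) = augA (kres M) G a := by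
            rw [augA_apply, Finset.sum_congr rfl fun w _ => hac w, ← Finset.sum_filter,
              Finset.sum_const, nsmul_eq_mul, mul_one]
            congr 1
            simp
        _ = augA (kres M) G (brTrunc Q a) := (augA_brTrunc hQ hafix).symm
        _ = _ := by
            rw [augA_apply, ← Finset.sum_filter]
            rw [Finset.sum_congr rfl (g := fun w => if w ∈ nOrbit N y ∧
              w ∈ Subgroup.centralizer (Q : Set G) then (1 : kres M) else 0) (fun w _ => by
              by_cases hw : w ∈ Subgroup.centralizer (Q : Set G)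
              · rw [coeff_brTrunc_of_mem _ hw, hac]; simp [hw]
              · rw [coeff_brTrunc_of_not_mem _ hw, if_neg fun h => hw h.2])]
            rw [← Finset.sum_filter]
            exact Finset.sum_congr (Finset.ext fun w => by simp) fun _ _ => rfl
    rw [hfix, Finset.sum_mul]
    refine Finset.sum_congr rfl fun w hw => ?_
    split_ifs
    · rw [one_mul]
      obtain ⟨n, -, rfl⟩ := mem_nOrbit.1 hw
      simp only [ratio, Chars.isClassFunction_coe ψ y n]
    · rw [zero_mul]

end

end CfsgLib.Blocks.PrincipalExtension
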