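import Cfsg.Agent.Blocks.Covering.PrincipalExtension

/-!
# The homomorphism attached to an extension of a principal character

`c ↦ ψ(c)/θ(1)` modulo `M` is multiplicative on `C(P)` and constant on the cosets of `C_N(P)`;
lifting it to a linear character of `G/N` and twisting gives an extension that lies in every
principal block over `N`.
-/

set_option autoImplicit false
open scoped MonoidAlgebra
open MonoidAlgebra (single)

namespace CfsgLib.Blocks.PrincipalExtension

open Cfsg CfsgLib CfsgLib.Blocks CfsgLib.Blocks.IsaacsSmith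

theorem sum_pow_of_commute {R ι : Type*} [Ring R] {p : ℕ} [Fact p.Prime] [CharP R p] (n : ℕ)
    (s : Finset ι) (f : ι → R) (h : ∀ i ∈ s, ∀ j ∈ s, Commute (f i) (f j)) :
    (∑ i ∈ s, f i) ^ p ^ n = ∑ i ∈ s, f i ^ p ^ n := by
  classical
  induction s using Finset.induction with
  | empty => simp [(Fact.out : p.Prime).ne_zero]
  | insert a s ha ih =>
    rw [Finset.sum_insert ha, Finset.sum_insert ha,
      add_pow_char_pow_of_commute (p := p) (n := n) (h := Commute.sum_right _ _ _ fun j hj =>
        h a (Finset.mem_insert_self _ _) j (Finset.mem_insert_of_mem hj)),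
      ih fun i hi j hj => h i (Finset.mem_insert_of_mem hi) j (Finset.mem_insert_of_mem hj)]

variable {G : Type*} [Group G] [Fintype G] {p : ℕ} [Fact p.Prime] {M : Ideal AlgInt}
  [hMi : M.IsMaximal] {N : Subgroup G} [N.Normal]

variable (P : Sylow p N)

/-- The Sylow subgroup of `N` as a subgroup of `G`. -/
abbrev sylG : Subgroup G := (P : Subgroup N).map N.subtype

/-- The p'-part of `C_N(P)` as a subgroup of `G`. -/
noncomputable abbrev regG : Subgroup G := (regCentralizer p (P : Subgroup N)).map N.subtype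

omit hMi [N.Normal] [Fintype G] [Fact p.Prime] in
theorem mem_centralizer_sylG {x : N} :
    (x : G) ∈ Subgroup.centralizer (sylG P : Set G) ↔
      x ∈ Subgroup.centralizer ((P : Subgroup N) : Set N) := by
  rw [Subgroup.mem_centralizer_iff, Subgroup.mem_centralizer_iff]
  constructor
  · intro h y hy
    exact Subtype.ext (h (y : G) ⟨y, hy, rfl⟩)
  · rintro h _ ⟨y, hy, rfl⟩
    exact congrArg Subtype.val (h y hy)

omit hMi [N.Normal] in
theorem mem_regG_iff {g : G} :
    g ∈ regG P ↔ g ∈ N ∧ g ∈ Subgroup.centralizer (sylG P : Set G) ∧ (orderOf g).Coprime p := by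
  constructor
  · rintro ⟨x, hx, rfl⟩
    refine ⟨x.2, (mem_centralizer_sylG P).2 (regCentralizer_le _ hx), ?_⟩
    rw [Subgroup.coe_subtype, Subgroup.orderOf_coe]
    exact (coprime_card_regCentralizer P).coprime_dvd_left (Subgroup.orderOf_dvd_natCard _ hx)
  · rintro ⟨hN, hC, hp⟩
    exact ⟨⟨g, hN⟩, Subgroup.subset_closure
      ⟨(mem_centralizer_sylG P).1 hC, by rwa [Subgroup.orderOf_mk]⟩, rfl⟩

omit hMi in
theorem conj_mem_regG {c g : G} (hc : c ∈ Subgroup.centralizer (sylG P : Set G))
    (hg : g ∈ regG P) : c * g * c⁻¹ ∈ regG P := by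
  rw [mem_regG_iff] at hg ⊢
  refine ⟨‹N.Normal›.conj_mem g hg.1 c, mul_mem (mul_mem hc hg.2.1) (inv_mem hc), ?_⟩
  rw [show c * g * c⁻¹ = MulAut.conj c g from rfl, MulEquiv.orderOf_eq]
  exact hg.2.2

omit hMi [N.Normal] in
theorem exists_decomp {d : G} (hdN : d ∈ N) (hdC : d ∈ Subgroup.centralizer (sylG P : Set G)) :
    ∃ a ∈ sylG P, ∃ b ∈ regG P, d = a * b := by
  obtain ⟨a, ha, b, hb, hab⟩ :=
    exists_decomp_centralizer P (c := ⟨d, hdN⟩) ((mem_centralizer_sylG P).1 hdC)
  exact ⟨a, ⟨a, ha, rfl⟩, b, ⟨b, hb, rfl⟩, congrArg Subtype.val hab⟩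

omit hMi [N.Normal] in
theorem isPGroup_sylG : IsPGroup p (sylG P) := P.2.map _

omit hMi [N.Normal] in
theorem sylG_le : sylG P ≤ N := Subgroup.map_subtype_le _

omit hMi [N.Normal] in
theorem not_dvd_index_sylG : ¬ p ∣ ((sylG P).subgroupOf N).index := by
  rw [Subgroup.subgroupOf, Subgroup.comap_map_eq_self_of_injective N.subtype_injective]
  exact P.not_dvd_index

open Classical in
/-- The linear functional on the centralizer. -/
noncomputable def lfun (M : Ideal AlgInt) [M.IsMaximal] (ψ : IrrCharacter G) (Q : Subgroup G) :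
    (kres M)[G] →ₗ[kres M] kres M where
  toFun a := ∑ g ∈ Finset.univ.filter (· ∈ Subgroup.centralizer (Q : Set G)),
    a.coeff g * ratio M ψ g
  map_add' a b := by simp [add_mul, Finset.sum_add_distrib]
  map_smul' r a := by simp [Finset.mul_sum, mul_assoc]

omit [Fact p.Prime] in
open Classical in
theorem lfun_single (ψ : IrrCharacter G) (Q : Subgroup G) {c : G}
    (hc : c ∈ Subgroup.centralizer (Q : Set G)) (r : kres M) :
    lfun M ψ Q (single c r) = r * ratio M ψ c := by
  show ∑ g ∈ _, _ = _
  rw [Finset.sum_eq_single c]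
  · rw [MonoidAlgebra.coeff_single, Finsupp.single_eq_same]
  · intro b _ hb; rw [MonoidAlgebra.coeff_single, Finsupp.single_eq_of_ne hb, zero_mul]
  · intro h; exact absurd (Finset.mem_filter.2 ⟨Finset.mem_univ _, hc⟩) h

variable {ψ : IrrCharacter G} {θ : IrrCharacter N}
  (hres : ∀ x : N, (ψ : G → ℂ) x = (θ : N → ℂ) x) (hθ : θ ∈ principalBlock M N)
  (hM : IsPModular p M)

include hres hθ hM in
theorem bar_eq_lfun (z : localElts M G) (hz : IsInvariantElt N (z : GA G)) :
    bar M ψ z = lfun M ψ (sylG P) (brTrunc (sylG P) (reduceHom M G z)) := by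
  classical
  rw [bar_eq hres hθ hM (sylG P) (sylG_le P) (isPGroup_sylG P) (not_dvd_index_sylG P) z hz]
  exact Finset.sum_congr rfl fun g hg => by
    rw [coeff_brTrunc_of_mem _ (Finset.mem_filter.1 hg).2]

omit [Fact p.Prime] [N.Normal] in
theorem isFixedBy_reduceHom {Q : Subgroup G} (hQ : Q ≤ N) {z : localElts M G}
    (hz : IsInvariantElt N (z : GA G)) : IsFixedBy (reduceHom M G z) Q := fun s hs g => by
  rw [coeff_reduceHom, coeff_reduceHom]
  exact congrArg (res M) (Subtype.ext (hz s (hQ hs) g))

include hres hθ in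
theorem bar_mul {z w : localElts M G} (hz : IsInvariantElt N (z : GA G))
    (hzl : MemLocalRing M (omega (ψ : G → ℂ) (z : GA G)))
    (hwl : MemLocalRing M (omega (ψ : G → ℂ) (w : GA G))) :
    bar M ψ ((z * w : localElts M G) : GA G) = bar M ψ z * bar M ψ w := by
  have e : omega (ψ : G → ℂ) ((z * w : localElts M G) : GA G) =
      omega (ψ : G → ℂ) (z : GA G) * omega (ψ : G → ℂ) (w : GA G) :=
    omega_mul_of_invariant ψ.2 (isIrr_restrict hres) hz _
  rw [bar, bar, bar, e, redC_of_mem hzl, redC_of_mem hwl,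
    redC_of_mem ((localRing M).mul_mem hzl hwl)]
  exact map_mul (res M) ⟨_, hzl⟩ ⟨_, hwl⟩

open Classical in
/-- The union of the `N`-orbits through the p'-part of `C_N(P)`, averaged. -/
noncomputable def regAvg : GA G :=
  (Nat.card (regG P) : ℂ)⁻¹ •
    indElt (Finset.univ.filter fun y => ∃ k ∈ regG P, y ∈ nOrbit N k)

omit hMi [N.Normal] in
theorem not_dvd_card_regG : ¬ p ∣ Nat.card (regG P) := by
  rw [← Nat.card_congr (Subgroup.equivMapOfInjective _ N.subtype N.subtype_injective).toEquiv]
  exact Transfer.not_dvd_of_coprime (coprime_card_regCentralizer P)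

include hM in
theorem memLocalRing_inv_card : MemLocalRing M ((Nat.card (regG P) : ℂ)⁻¹) :=
  memLocalRing_inv (by simpa using memLocalRing_coe (M := M) (Nat.card (regG P) : AlgInt))
    fun h => not_dvd_card_regG P ((memLocalIdeal_natCast_iff hM _).1 h)

include hM in
theorem regAvg_mem : regAvg P ∈ localElts M G := fun g => by
  classical
  rw [regAvg, MonoidAlgebra.coeff_smul_apply, smul_eq_mul]
  exact (localRing M).mul_mem (memLocalRing_inv_card P hM) (indElt_mem _ g)

omit hMi in
theorem isInvariantElt_regAvg : IsInvariantElt N (regAvg P) := by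
  classical
  intro n hn g
  rw [regAvg, MonoidAlgebra.coeff_smul_apply, MonoidAlgebra.coeff_smul_apply, coeff_indElt,
    coeff_indElt]
  congr 1
  refine if_congr ?_ rfl rfl
  simp only [Finset.mem_filter, Finset.mem_univ, true_and]
  refine exists_congr fun k => and_congr_right fun _ => ?_
  rw [nOrbit_eq_iff, nOrbit_eq_iff, (nOrbit_eq_iff g _).1 (mem_nOrbit.2 ⟨n, hn, rfl⟩)]

omit hMi in
open Classical in
/-- The average of the p'-part of `C_N(P)`. -/
noncomputable def eK (M : Ideal AlgInt) [M.IsMaximal] : (kres M)[G] :=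
  ∑ k ∈ Finset.univ.filter (· ∈ regG P), single k (Nat.card (regG P) : kres M)⁻¹

theorem coeff_eK (g : G) [Decidable (g ∈ regG P)] :
    (eK P M).coeff g = if g ∈ regG P then (Nat.card (regG P) : kres M)⁻¹ else 0 := by
  classical
  rw [eK, MonoidAlgebra.coeff_sum, Finsupp.finsetSum_apply]
  split_ifs with hg
  · rw [Finset.sum_eq_single g]
    · exact Finsupp.single_eq_same
    · intro b _ hb; exact Finsupp.single_eq_of_ne (Ne.symm hb)
    · intro h; exact absurd (Finset.mem_filter.2 ⟨Finset.mem_univ _, hg⟩) h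
  · refine Finset.sum_eq_zero fun b hb => Finsupp.single_eq_of_ne ?_
    rintro rfl
    exact hg (Finset.mem_filter.1 hb).2

include hM in
theorem brTrunc_regAvg :
    brTrunc (sylG P) (reduceHom M G ⟨regAvg P, regAvg_mem P hM⟩) = eK P M := by
  classical
  haveI := charP_kres hM
  refine MonoidAlgebra.ext (Finsupp.ext fun g => ?_)
  rw [coeff_eK]
  by_cases hg : g ∈ Subgroup.centralizer (sylG P : Set G)
  · rw [coeff_brTrunc_of_mem _ hg, coeff_reduceHom]
    have hiff : (∃ k ∈ regG P, g ∈ nOrbit N k) ↔ g ∈ regG P := by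
      refine ⟨?_, fun h => ⟨g, h, self_mem_nOrbit g⟩⟩
      rintro ⟨k, hk, hgk⟩
      obtain ⟨n, hn, rfl⟩ := mem_nOrbit.1 hgk
      rw [mem_regG_iff] at hk ⊢
      refine ⟨N.mul_mem (N.mul_mem hn hk.1) (N.inv_mem hn), hg, ?_⟩
      rw [show n * k * n⁻¹ = MulAut.conj n k from rfl, MulEquiv.orderOf_eq]
      exact hk.2.2
    have e : (regAvg P).coeff g = if g ∈ regG P then (Nat.card (regG P) : ℂ)⁻¹ else 0 := by
      rw [regAvg, MonoidAlgebra.coeff_smul_apply, coeff_indElt, smul_eq_mul]
      simp only [Finset.mem_filter, Finset.mem_univ, true_and, hiff, mul_ite, mul_one, mul_zero]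
    split_ifs with h
    · rw [if_pos h] at e
      simp only [e]
      have hl : MemLocalRing M ((Nat.card (regG P) : ℂ)⁻¹) := memLocalRing_inv_card P hM
      have hne : (Nat.card (regG P) : ℂ) ≠ 0 := by exact_mod_cast Nat.card_pos.ne'
      refine eq_inv_of_mul_eq_one_left ?_
      rw [← map_natCast (res M), ← map_mul, ← map_one (res M)]
      exact congrArg (res M) (Subtype.ext (by push_cast; exact inv_mul_cancel₀ hne))
    · rw [if_neg h] at e
      simp only [e]
      exact map_zero (res M)
  · rw [coeff_brTrunc_of_not_mem _ hg, if_neg fun h => hg ((mem_regG_iff P).1 h).2.1]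

theorem single_mul_eK {k : G} (hk : k ∈ regG P) : single k (1 : kres M) * eK P M = eK P M := by
  classical
  refine MonoidAlgebra.ext (Finsupp.ext fun g => ?_)
  rw [MonoidAlgebra.coeff_single_mul_apply, one_mul, coeff_eK, coeff_eK]
  exact if_congr (Subgroup.mul_mem_cancel_left _ (inv_mem hk)) rfl rfl

theorem commute_single_eK {c : G} (hc : c ∈ Subgroup.centralizer (sylG P : Set G)) :
    Commute (single c (1 : kres M)) (eK P M) := by
  classical
  refine (isFixedBy_iff_commute (S := Subgroup.centralizer (sylG P : Set G))).1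
    (fun s hs g => ?_) c hc
  rw [coeff_eK, coeff_eK]
  refine if_congr ⟨fun h => ?_, conj_mem_regG P hs⟩ rfl rfl
  have := conj_mem_regG P (inv_mem hs) h
  simpa [mul_assoc] using this

include hM in
theorem eK_mul_self : eK P M * eK P M = eK P M := by
  classical
  haveI := charP_kres hM
  have hne : (Nat.card (regG P) : kres M) ≠ 0 := by
    rw [Ne, CharP.cast_eq_zero_iff (kres M) p]; exact not_dvd_card_regG P
  conv_lhs => arg 1; rw [eK]
  rw [Finset.sum_mul, Finset.sum_congr rfl (g := fun _ => (Nat.card (regG P) : kres M)⁻¹ • eK P M),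
    Finset.sum_const, Nat.card_eq_fintype_card, Fintype.card_subtype, ← Nat.cast_smul_eq_nsmul (kres M),
    smul_smul]
  · rw [mul_inv_cancel₀, one_smul]
    rwa [Nat.card_eq_fintype_card, Fintype.card_subtype] at hne
  · intro x hx
    rw [← mul_one ((Nat.card (regG P) : kres M)⁻¹), ← MonoidAlgebra.smul_single', mul_one,
      smul_mul_assoc, single_mul_eK P (Finset.mem_filter.1 hx).2]

omit hMi in
open Classical in
/-- The part of an orbit in the centralizer. -/
noncomputable def cPart (x : G) : Finset G :=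
  (nOrbit N x).filter (· ∈ Subgroup.centralizer (sylG P : Set G))

theorem brTrunc_orbit (x : G) :
    brTrunc (sylG P) (reduceHom M G ⟨_, indElt_mem (nOrbit N x)⟩) =
      ∑ c ∈ cPart P x, single c (1 : kres M) := by
  classical
  refine MonoidAlgebra.ext (Finsupp.ext fun g => ?_)
  have hr : (∑ c ∈ cPart P x, single c (1 : kres M)).coeff g =
      if g ∈ cPart P x then (1 : kres M) else 0 := by
    rw [MonoidAlgebra.coeff_sum, Finsupp.finsetSum_apply]
    simp [MonoidAlgebra.coeff_single, Finsupp.single_apply]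
  rw [hr]
  by_cases hg : g ∈ Subgroup.centralizer (sylG P : Set G)
  · rw [coeff_brTrunc_of_mem _ hg, coeff_reduceHom]
    have e : (indElt (nOrbit N x)).coeff g = if g ∈ nOrbit N x then 1 else 0 := coeff_indElt _ g
    by_cases hm : g ∈ nOrbit N x
    · rw [if_pos (show g ∈ cPart P x from Finset.mem_filter.2 ⟨hm, hg⟩)]
      rw [if_pos hm] at e; simp only [e]; exact map_one (res M)
    · rw [if_neg (show g ∉ cPart P x from fun h => hm (Finset.mem_filter.1 h).1)]
      rw [if_neg hm] at e; simp only [e]; exact map_zero (res M)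
  · rw [coeff_brTrunc_of_not_mem _ hg,
      if_neg (show g ∉ cPart P x from fun h => hg (Finset.mem_filter.1 h).2)]

omit hMi in
theorem div_mem_of_mem_cPart {x c : G} (hx : x ∈ Subgroup.centralizer (sylG P : Set G))
    (hc : c ∈ cPart P x) :
    x⁻¹ * c ∈ N ∧ x⁻¹ * c ∈ Subgroup.centralizer (sylG P : Set G) := by
  classical
  obtain ⟨h1, h2⟩ := Finset.mem_filter.1 hc
  obtain ⟨n, hn, rfl⟩ := mem_nOrbit.1 h1
  refine ⟨?_, mul_mem (inv_mem hx) h2⟩
  rw [show x⁻¹ * (n * x * n⁻¹) = x⁻¹ * n * x⁻¹⁻¹ * n⁻¹ by group]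
  exact N.mul_mem (‹N.Normal›.conj_mem n hn x⁻¹) (N.inv_mem hn)

include hM in
theorem card_cPart_ne_zero {x : G} (hx : x ∈ Subgroup.centralizer (sylG P : Set G)) :
    ((cPart P x).card : kres M) ≠ 0 := by
  classical
  haveI := charP_kres hM
  have hfix : IsFixedBy (reduceHom M G ⟨_, indElt_mem (nOrbit N x)⟩) (sylG P) :=
    isFixedBy_reduceHom (sylG_le P) (isInvariantElt_indElt x)
  have h := augA_brTrunc (isPGroup_sylG P) hfix
  rw [brTrunc_orbit P x, map_sum, augA_apply] at h
  simp only [augA_single, Finset.sum_const, nsmul_eq_mul, mul_one] at h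
  have h2 : ∑ g : G, (reduceHom M G ⟨_, indElt_mem (nOrbit N x)⟩).coeff g =
      ((nOrbit N x).card : kres M) := by
    rw [Finset.sum_congr rfl (g := fun g => if g ∈ nOrbit N x then (1 : kres M) else 0)]
    · simp
    · intro g _
      rw [coeff_reduceHom]
      have e : (indElt (nOrbit N x)).coeff g = if g ∈ nOrbit N x then 1 else 0 := coeff_indElt _ g
      split_ifs with hg
      · rw [if_pos hg] at e; simp only [e]; exact map_one (res M)
      · rw [if_neg hg] at e; simp only [e]; exact map_zero (res M)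
  rw [h, h2, Ne, CharP.cast_eq_zero_iff (kres M) p]
  exact not_dvd_card_orbit_of_mem (sylG P) (sylG_le P) (not_dvd_index_sylG P) hx

theorem bar_orbit_eq {x : G} : lfun M ψ (sylG P) (∑ c ∈ cPart P x, single c (1 : kres M)) =
    ((cPart P x).card : kres M) * ratio M ψ x := by
  classical
  rw [map_sum, Finset.sum_congr rfl (g := fun _ => ratio M ψ x), Finset.sum_const, nsmul_eq_mul]
  intro c hc
  obtain ⟨h1, h2⟩ := Finset.mem_filter.1 hc
  rw [lfun_single ψ _ h2, one_mul]
  obtain ⟨n, -, rfl⟩ := mem_nOrbit.1 h1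
  simp only [ratio, Chars.isClassFunction_coe ψ x n]

include hres hθ hM in
/-- The ratio of `x` raised to the order of `P` only depends on `x ^ |P|` modulo the p'-part. -/
theorem ratio_pow_eq {x : G} (hx : x ∈ Subgroup.centralizer (sylG P : Set G)) {m : ℕ}
    (hm : Nat.card (sylG P) = p ^ m) :
    ratio M ψ x ^ p ^ m = lfun M ψ (sylG P) (single (x ^ p ^ m) (1 : kres M) * eK P M) := by
  classical
  haveI := charP_kres hM
  haveI : CharP (kres M)[G] p := charP_of_injective_algebraMap
    (R := kres M) (A := (kres M)[G]) (fun a b h => by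
      have := congrArg (augA (kres M) G) h
      rwa [AlgHom.commutes, AlgHom.commutes] at this) p
  set q := p ^ m with hq
  set z : localElts M G := ⟨_, indElt_mem (nOrbit N x)⟩ with hz
  set w : localElts M G := ⟨regAvg P, regAvg_mem P hM⟩ with hw
  have hzi : IsInvariantElt N (z : GA G) := isInvariantElt_indElt x
  have hwi : IsInvariantElt N (w : GA G) := isInvariantElt_regAvg P
  have hzl : MemLocalRing M (omega (ψ : G → ℂ) (z : GA G)) := memLocalRing_omega_orbit hres hθ x
  have hwsupp : ∀ g ∉ N, (w : GA G).coeff g = 0 := fun g hg => by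
    show (regAvg P).coeff g = 0
    rw [regAvg, MonoidAlgebra.coeff_smul_apply, coeff_indElt, if_neg, smul_zero]
    intro h
    obtain ⟨-, k, hk, hgk⟩ := Finset.mem_filter.1 h
    obtain ⟨n, hn, rfl⟩ := mem_nOrbit.1 hgk
    exact hg (‹N.Normal›.conj_mem k ((mem_regG_iff P).1 hk).1 n)
  have hwc := congr_omega_supported hres hθ w.2 hwi hwsupp
  have hwloc : MemLocalRing M (∑ g : G, (w : GA G).coeff g) :=
    (localRing M).sum_mem fun g _ => w.2 g
  have hwl : MemLocalRing M (omega (ψ : G → ℂ) (w : GA G)) := by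
    have := (localRing M).add_mem hwloc (memLocalRing_of_memLocalIdeal hwc)
    simpa using this
  have hbarw : bar M ψ w = 1 := by
    rw [bar, (redC_eq_redC_iff hwl hwloc).2 hwc]
    have e : redC M (∑ g : G, (w : GA G).coeff g) = augA (kres M) G (reduceHom M G w) := by
      rw [augA_apply, redC_of_mem hwloc, show (⟨_, hwloc⟩ : localRing M) =
        ∑ g : G, (⟨(w : GA G).coeff g, w.2 g⟩ : localRing M) from
          Subtype.ext (by rw [AddSubmonoidClass.coe_finset_sum]), map_sum]
      exact Finset.sum_congr rfl fun g _ => (coeff_reduceHom w g).symm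
    rw [e, ← augA_brTrunc (isPGroup_sylG P) (isFixedBy_reduceHom (sylG_le P) hwi), hw,
      brTrunc_regAvg P hM, eK, map_sum]
    simp only [augA_single, Finset.sum_const, nsmul_eq_mul]
    rw [← Fintype.card_subtype, ← Nat.card_eq_fintype_card]
    exact mul_inv_cancel₀ (by
      rw [Ne, CharP.cast_eq_zero_iff (kres M) p]; exact not_dvd_card_regG P)
  have hzpow : ∀ i : ℕ, IsInvariantElt N ((z ^ i : localElts M G) : GA G) := fun i => by
    rw [SubmonoidClass.coe_pow]; exact hzi.pow i
  have hzpowl : ∀ i : ℕ, MemLocalRing M (omega (ψ : G → ℂ) ((z ^ i : localElts M G) : GA G)) :=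
    fun i => by
      rw [SubmonoidClass.coe_pow, omega_pow_of_invariant hres hzi]
      exact (localRing M).pow_mem hzl i
  have hbarzq : bar M ψ ((z ^ q : localElts M G) : GA G) = bar M ψ z ^ q := by
    rw [bar, bar, SubmonoidClass.coe_pow, omega_pow_of_invariant hres hzi, redC_of_mem hzl,
      redC_of_mem ((localRing M).pow_mem hzl q)]
    exact map_pow (res M) ⟨_, hzl⟩ q
  have hmain := bar_mul hres hθ (z := z ^ q) (w := w) (hzpow q) (hzpowl q) hwl
  rw [hbarzq, hbarw, mul_one, bar_eq_lfun P hres hθ hM (z ^ q * w)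
    (by rw [Subring.coe_mul]; exact (hzpow q).mul hwi), map_mul,
    brTrunc_mul (isPGroup_sylG P) (isFixedBy_reduceHom (sylG_le P) (hzpow q))
      (isFixedBy_reduceHom (sylG_le P) hwi),
    hw, brTrunc_regAvg P hM, bar_eq_lfun P hres hθ hM z hzi, hz, brTrunc_orbit P x,
    bar_orbit_eq P] at hmain
  have hbrpow : ∀ i : ℕ, 0 < i → brTrunc (sylG P) (reduceHom M G (z ^ i)) =
      (∑ c ∈ cPart P x, single c (1 : kres M)) ^ i := by
    intro i hi
    induction i with
    | zero => omega
    | succ i ih =>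
      rcases Nat.eq_zero_or_pos i with rfl | hi'
      · rw [pow_one, pow_one, hz, brTrunc_orbit P x]
      · rw [pow_succ, pow_succ, map_mul, brTrunc_mul (isPGroup_sylG P)
          (isFixedBy_reduceHom (sylG_le P) (hzpow i)) (isFixedBy_reduceHom (sylG_le P) hzi),
          ih hi', hz, brTrunc_orbit P x]
  have hqpos : 0 < q := pow_pos (Fact.out : p.Prime).pos m
  rw [← hz, hbrpow q hqpos] at hmain
  -- the summands commute modulo the p'-part
  have hcP : ∀ c ∈ cPart P x, c ∈ Subgroup.centralizer (sylG P : Set G) := fun c hc =>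
    (Finset.mem_filter.1 hc).2
  have hrep : ∀ c ∈ cPart P x, ∃ a ∈ sylG P,
      single c (1 : kres M) * eK P M = single (x * a) 1 * eK P M := by
    intro c hc
    obtain ⟨h1, h2⟩ := div_mem_of_mem_cPart P hx hc
    obtain ⟨a, ha, b, hb, hab⟩ := exists_decomp P h1 h2
    refine ⟨a, ha, ?_⟩
    rw [show c = x * a * b by rw [mul_assoc, ← hab]; group, ← mul_one (1 : kres M),
      ← MonoidAlgebra.single_mul_single, mul_assoc, single_mul_eK P hb, mul_one]
  have hzC : ∀ a ∈ sylG P, ∀ y ∈ Subgroup.centralizer (sylG P : Set G), a * y = y * a :=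
    fun a ha y hy => Subgroup.mem_centralizer_iff.1 hy a ha
  have hxa : ∀ c ∈ cPart P x, ∀ a ∈ sylG P,
      single c (1 : kres M) * eK P M = single (x * a) 1 * eK P M → x * a ∈
        Subgroup.centralizer (sylG P : Set G) → (single c (1 : kres M) * eK P M) ^ q =
          single (x ^ q) 1 * eK P M := by
    intro c _ a ha he hmem
    rw [he, (commute_single_eK P hmem).mul_pow,
      IsIdempotentElem.pow_eq (eK_mul_self P hM) hqpos.ne', MonoidAlgebra.single_pow, one_pow,
      (show Commute x a from (hzC a ha x hx).symm).mul_pow]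
    have : a ^ q = 1 := by
      have h := pow_card_eq_one' (G := sylG P) (x := ⟨a, ha⟩)
      rw [hm] at h
      exact congrArg Subtype.val h
    rw [this, mul_one]
  have hrepC : ∀ c ∈ cPart P x, ∃ a ∈ sylG P, x * a ∈ Subgroup.centralizer (sylG P : Set G) ∧
      a ∈ Subgroup.centralizer (sylG P : Set G) ∧
      single c (1 : kres M) * eK P M = single (x * a) 1 * eK P M := by
    intro c hc
    obtain ⟨h1, h2⟩ := div_mem_of_mem_cPart P hx hc
    obtain ⟨a, ha, b, hb, hab⟩ := exists_decomp P h1 h2
    have haC : a ∈ Subgroup.centralizer (sylG P : Set G) := by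
      have := mul_mem h2 (inv_mem ((mem_regG_iff P).1 hb).2.1)
      rw [hab, mul_inv_cancel_right] at this
      exact this
    refine ⟨a, ha, mul_mem hx haC, haC, ?_⟩
    rw [show c = x * a * b by rw [mul_assoc, ← hab]; group, ← mul_one (1 : kres M),
      ← MonoidAlgebra.single_mul_single, mul_assoc, single_mul_eK P hb, mul_one]
  have hcomm : ∀ c ∈ cPart P x, ∀ c' ∈ cPart P x,
      Commute (single c (1 : kres M) * eK P M) (single c' (1 : kres M) * eK P M) := by
    intro c hc c' hc'
    obtain ⟨a, ha, hxa', haC, he⟩ := hrepC c hc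
    obtain ⟨a', ha', hxa'', haC', he'⟩ := hrepC c' hc'
    rw [he, he']
    have hg : Commute (x * a) (x * a') := by
      have hxx : Commute x a := (hzC a ha x hx).symm
      have hxx' : Commute x a' := (hzC a' ha' x hx).symm
      exact ((Commute.refl x).mul_right hxx').mul_left (hxx.symm.mul_right (hzC a ha a' haC'))
    have hs : Commute (single (x * a) (1 : kres M)) (single (x * a') 1) := by
      show _ * _ = _ * _
      rw [MonoidAlgebra.single_mul_single, MonoidAlgebra.single_mul_single, hg.eq]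
    have he1 := commute_single_eK (M := M) P hxa'
    have he2 := commute_single_eK (M := M) P hxa''
    exact (hs.mul_right he1).mul_left (he2.symm.mul_right (Commute.refl _))
  have hsum : (∑ c ∈ cPart P x, single c (1 : kres M)) ^ q * eK P M =
      ((cPart P x).card : kres M) • (single (x ^ q) 1 * eK P M) := by
    have hce : Commute (∑ c ∈ cPart P x, single c (1 : kres M)) (eK P M) :=
      Commute.sum_left _ _ _ fun c hc => commute_single_eK P (hcP c hc)
    have e1 : (∑ c ∈ cPart P x, single c (1 : kres M)) ^ q * eK P M =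
        (∑ c ∈ cPart P x, single c (1 : kres M) * eK P M) ^ q := by
      rw [← Finset.sum_mul, hce.mul_pow, IsIdempotentElem.pow_eq (eK_mul_self P hM) hqpos.ne']
    rw [e1, hq, sum_pow_of_commute m _ _ hcomm, Finset.sum_congr rfl (g := fun _ =>
      single (x ^ p ^ m) (1 : kres M) * eK P M) (fun c hc => by
        obtain ⟨a, ha, hmem, -, he⟩ := hrepC c hc
        exact hxa c hc a ha he hmem), Finset.sum_const, Nat.cast_smul_eq_nsmul]
  rw [hsum, map_smul, smul_eq_mul, mul_pow] at hmain
  have hfrob : ((cPart P x).card : kres M) ^ q = ((cPart P x).card : kres M) := by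
    haveI : ExpChar (kres M) p := ExpChar.prime (Fact.out : p.Prime)
    rw [hq, ← iterateFrobenius_def, map_natCast]
  rw [hfrob] at hmain
  exact (mul_left_cancel₀ (card_cPart_ne_zero P hM hx) hmain).symm

include hres hθ hM in
/-- The ratio is constant on the cosets of `C_N(P)`. -/
theorem ratio_mul_eq {x d : G} (hx : x ∈ Subgroup.centralizer (sylG P : Set G)) (hdN : d ∈ N)
    (hdC : d ∈ Subgroup.centralizer (sylG P : Set G)) : ratio M ψ (x * d) = ratio M ψ x := by
  classical
  haveI := charP_kres hM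
  obtain ⟨m, hm⟩ := IsPGroup.iff_card.1 (isPGroup_sylG P)
  obtain ⟨a, ha, b, hb, rfl⟩ := exists_decomp P hdN hdC
  have hbC := ((mem_regG_iff P).1 hb).2.1
  have haC : a ∈ Subgroup.centralizer (sylG P : Set G) := by
    have := mul_mem hdC (inv_mem hbC); simpa using this
  have hxaC := mul_mem hx haC
  have h1 := ratio_pow_eq P hres hθ hM (mul_mem hx hdC) hm
  have h2 := ratio_pow_eq P hres hθ hM hx hm
  have hqpos : p ^ m ≠ 0 := pow_ne_zero _ (Fact.out : p.Prime).ne_zero
  have hq : single ((x * (a * b)) ^ p ^ m) (1 : kres M) * eK P M =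
      single (x ^ p ^ m) 1 * eK P M := by
    have hxab : x * (a * b) ∈ Subgroup.centralizer (sylG P : Set G) := mul_mem hx hdC
    have e : single (x * (a * b)) (1 : kres M) * eK P M = single (x * a) 1 * eK P M := by
      rw [← mul_assoc x, ← mul_one (1 : kres M), ← MonoidAlgebra.single_mul_single, mul_assoc,
        single_mul_eK P hb, mul_one]
    have e2 := congrArg (· ^ p ^ m) e
    simp only [(commute_single_eK P hxab).mul_pow, (commute_single_eK P hxaC).mul_pow,
      IsIdempotentElem.pow_eq (eK_mul_self P hM) hqpos, MonoidAlgebra.single_pow, one_pow] at e2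
    rw [e2, (show Commute x a from (Subgroup.mem_centralizer_iff.1 hx a ha).symm).mul_pow]
    have : a ^ p ^ m = 1 := by
      have h := pow_card_eq_one' (G := sylG P) (x := ⟨a, ha⟩)
      rw [hm] at h
      exact congrArg Subtype.val h
    rw [this, mul_one]
  rw [hq, ← h2] at h1
  haveI : ExpChar (kres M) p := ExpChar.prime (Fact.out : p.Prime)
  rw [← iterateFrobenius_def, ← iterateFrobenius_def] at h1
  exact iterateFrobenius_inj (kres M) p m h1

include hres hθ hM in
theorem ratio_mul {x y : G} (hx : x ∈ Subgroup.centralizer (sylG P : Set G))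
    (hy : y ∈ Subgroup.centralizer (sylG P : Set G)) :
    ratio M ψ (x * y) = ratio M ψ x * ratio M ψ y := by
  classical
  haveI := charP_kres hM
  set z : localElts M G := ⟨_, indElt_mem (nOrbit N x)⟩
  set w : localElts M G := ⟨_, indElt_mem (nOrbit N y)⟩
  have hzi : IsInvariantElt N (z : GA G) := isInvariantElt_indElt x
  have hwi : IsInvariantElt N (w : GA G) := isInvariantElt_indElt y
  have h := bar_mul hres hθ (z := z) (w := w) hzi (memLocalRing_omega_orbit hres hθ x)
    (memLocalRing_omega_orbit hres hθ y)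
  rw [bar_eq_lfun P hres hθ hM (z * w) (by rw [Subring.coe_mul]; exact hzi.mul hwi), map_mul,
    brTrunc_mul (isPGroup_sylG P) (isFixedBy_reduceHom (sylG_le P) hzi)
      (isFixedBy_reduceHom (sylG_le P) hwi),
    bar_eq_lfun P hres hθ hM z hzi, bar_eq_lfun P hres hθ hM w hwi, brTrunc_orbit P x,
    brTrunc_orbit P y, bar_orbit_eq P, bar_orbit_eq P, Finset.sum_mul_sum, map_sum] at h
  rw [Finset.sum_congr rfl (g := fun _ => ((cPart P y).card : kres M) * ratio M ψ (x * y)),
    Finset.sum_const, nsmul_eq_mul] at h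
  · have h1 : ((cPart P x).card : kres M) * ((cPart P y).card : kres M) ≠ 0 :=
      mul_ne_zero (card_cPart_ne_zero P hM hx) (card_cPart_ne_zero P hM hy)
    refine mul_left_cancel₀ h1 ?_
    rw [mul_assoc, h]; ring
  · intro c hc
    rw [map_sum, Finset.sum_congr rfl (g := fun _ => ratio M ψ (x * y)), Finset.sum_const,
      nsmul_eq_mul]
    intro c' hc'
    obtain ⟨h1, h2⟩ := div_mem_of_mem_cPart P hx hc
    obtain ⟨h3, h4⟩ := div_mem_of_mem_cPart P hy hc'
    have hcC := (Finset.mem_filter.1 hc).2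
    have hcC' := (Finset.mem_filter.1 hc').2
    rw [MonoidAlgebra.single_mul_single, one_mul, lfun_single ψ _ (mul_mem hcC hcC'), one_mul]
    have e : c * c' = x * y * ((y⁻¹ * (x⁻¹ * c) * y⁻¹⁻¹) * (y⁻¹ * c')) := by group
    rw [e]
    exact ratio_mul_eq P hres hθ hM (mul_mem hx hy)
      (N.mul_mem (‹N.Normal›.conj_mem _ h1 y⁻¹) h3)
      (mul_mem (mul_mem (mul_mem (inv_mem hy) h2) (inv_mem (inv_mem hy))) h4)

omit [Fact p.Prime] [N.Normal] in
theorem ratio_one : ratio M ψ 1 = 1 := by
  rw [ratio, div_self (Chars.map_one_ne_zero ψ), redC_one]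

include hres hθ hM in
/-- With all ratios one the augmentation gives `omega`. -/
theorem bar_eq_aug (h1 : ∀ c ∈ Subgroup.centralizer (sylG P : Set G), ratio M ψ c = 1)
    (z : localElts M G) (hz : IsInvariantElt N (z : GA G)) :
    bar M ψ z = augA (kres M) G (reduceHom M G z) := by
  classical
  haveI := charP_kres hM
  rw [bar_eq_lfun P hres hθ hM z hz, ← augA_brTrunc (isPGroup_sylG P)
    (isFixedBy_reduceHom (sylG_le P) hz), augA_apply]
  show ∑ g ∈ _, _ = _
  rw [Finset.sum_filter]
  refine Finset.sum_congr rfl fun g _ => ?_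
  split_ifs with hg
  · rw [h1 g hg, mul_one]
  · rw [coeff_brTrunc_of_not_mem _ hg]

end CfsgLib.Blocks.PrincipalExtension
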