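import Cfsg.Agent.Blocks.Covering.PrincipalExtensionHom
import Cfsg.Agent.Blocks.Basic.Roots
import Cfsg.Agent.Chars.Quasiprimitive.MaximalInduced

/-!
# Twisting an extension into the principal blocks
-/

set_option autoImplicit false
open scoped MonoidAlgebra
open MonoidAlgebra (single)

namespace CfsgLib.Blocks.PrincipalExtension

open Cfsg CfsgLib CfsgLib.Blocks

variable {p : ℕ} {M : Ideal AlgInt} [hMi : M.IsMaximal]

omit hMi in
theorem memLocalRing_coe_algInt [M.IsMaximal] (a : AlgInt) : MemLocalRing M (a : ℂ) :=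
  memLocalRing_coe a

/-- Teichmüller lift of a nonzero residue. -/
theorem exists_root_redC_eq (hM : IsPModular p M) {u : kres M} (hu : u ≠ 0) :
    ∃ ε : AlgInt, (∃ m : ℕ, ¬ p ∣ m ∧ ε ^ m = 1) ∧ redC M (ε : ℂ) = u := by
  obtain ⟨⟨z, hz⟩, rfl⟩ := res_surjective (M := M) u
  have hzM : ¬ MemLocalIdeal M z := fun h => hu (res_eq_zero_iff.2 h)
  obtain ⟨a, b, hb, hab⟩ := id hz
  have hbne : (b : ℂ) ≠ 0 := coe_ne_zero_of_notMem hb
  -- an inverse of `b` modulo `M`
  obtain ⟨c, m, hm, hcm⟩ := hMi.exists_inv hb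
  have hzac : MemLocalIdeal M (z - ((a * c : AlgInt) : ℂ)) := by
    have e : z - ((a * c : AlgInt) : ℂ) = z * (m : ℂ) := by
      have hcb : (c : ℂ) * b + m = 1 := by exact_mod_cast congrArg Subtype.val hcm
      rw [← hab]
      push_cast
      field_simp
      linear_combination -(a : ℂ) * hcb
    rw [e]
    exact memLocalIdeal_mul_left hz (memLocalIdeal_coe hm)
  have hacM : a * c ∉ M := fun h => hzM (by
    have := memLocalIdeal_add hzac (memLocalIdeal_coe h)
    rwa [sub_add_cancel] at this)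
  obtain ⟨ε, hε, hsub⟩ := exists_root_sub_mem hM hacM
  refine ⟨ε, hε, ?_⟩
  rw [redC_of_mem (memLocalRing_coe_algInt ε), res_eq_res_iff]
  show MemLocalIdeal M ((ε : ℂ) - z)
  have h2 := memLocalIdeal_neg (memLocalIdeal_add hzac (memLocalIdeal_coe hsub))
  convert h2 using 1
  push_cast
  ring

theorem root_unique (hM : IsPModular p M) {ε₁ ε₂ : AlgInt}
    (h₁ : ∃ m : ℕ, ¬ p ∣ m ∧ ε₁ ^ m = 1) (h₂ : ∃ m : ℕ, ¬ p ∣ m ∧ ε₂ ^ m = 1)
    (h : redC M (ε₁ : ℂ) = redC M (ε₂ : ℂ)) : ε₁ = ε₂ := by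
  obtain ⟨m₁, hm₁, e₁⟩ := h₁
  obtain ⟨m₂, hm₂, e₂⟩ := h₂
  refine eq_of_sub_mem_of_roots hM hm₁ hm₂ e₁ e₂ ?_
  have hl := (redC_eq_redC_iff (memLocalRing_coe_algInt ε₁) (memLocalRing_coe_algInt ε₂)).1 h
  exact memLocalIdeal_coe_iff.1 (by push_cast; exact hl)

/-- A homomorphism into the residue field lifts to a linear character with p'-order values. -/
theorem exists_linear_lift (hM : IsPModular p M) {G : Type*} [Group G] (Φ : G →* (kres M)ˣ) :
    ∃ l : G →* ℂˣ, ∀ g : G, MemLocalRing M (l g : ℂ) ∧ redC M (l g : ℂ) = (Φ g : kres M) ∧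
      ∃ ε : AlgInt, (∃ m : ℕ, ¬ p ∣ m ∧ ε ^ m = 1) ∧ (ε : ℂ) = (l g : ℂ) := by
  choose ε hε hred using fun g : G => exists_root_redC_eq hM (Units.ne_zero (Φ g))
  have hone : ε 1 = 1 := root_unique hM (hε 1) ⟨1, by simpa using hM.1.ne_one, by simp⟩ (by
    rw [hred, map_one, OneMemClass.coe_one, redC_one, Units.val_one])
  have hmul : ∀ g h, ε (g * h) = ε g * ε h := by
    intro g h
    obtain ⟨m₁, hm₁, e₁⟩ := hε g
    obtain ⟨m₂, hm₂, e₂⟩ := hε h
    refine root_unique hM (hε _) ⟨m₁ * m₂, fun hd => (hM.1.dvd_mul.1 hd).elim hm₁ hm₂, ?_⟩ ?_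
    · rw [mul_pow, pow_mul, e₁, one_pow, one_mul, mul_comm m₁, pow_mul, e₂, one_pow]
    · rw [hred, map_mul, Units.val_mul, ← hred g, ← hred h, MulMemClass.coe_mul,
        redC_of_mem (memLocalRing_coe_algInt _), redC_of_mem (memLocalRing_coe_algInt _),
        redC_of_mem ((localRing M).mul_mem (memLocalRing_coe_algInt _) (memLocalRing_coe_algInt _))]
      exact (map_mul (res M) ⟨_, memLocalRing_coe_algInt (ε g)⟩
        ⟨_, memLocalRing_coe_algInt (ε h)⟩).symm
  let f : G →* ℂ :=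
    { toFun := fun g => (ε g : ℂ)
      map_one' := by rw [hone]; rfl
      map_mul' := fun g h => by rw [hmul]; rfl }
  exact ⟨f.toHomUnits, fun g => ⟨memLocalRing_coe_algInt (ε g), hred g, ε g, hε g, rfl⟩⟩

variable {G : Type*} [Group G] [Fintype G] [Fact p.Prime] {N : Subgroup G} [N.Normal]
  (P : Sylow p N) {ψ : IrrCharacter G} {θ : IrrCharacter N}

/-- There is a twist with all ratios one. -/
theorem exists_twist (hcov : N ⊔ Subgroup.centralizer (sylG P : Set G) = ⊤)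
    (hres : ∀ x : N, (ψ : G → ℂ) x = (θ : N → ℂ) x) (hθ : θ ∈ principalBlock M N)
    (hM : IsPModular p M) :
    ∃ χ : IrrCharacter G, (∀ x : N, (χ : G → ℂ) x = (θ : N → ℂ) x) ∧
      ∀ c ∈ Subgroup.centralizer (sylG P : Set G), ratio M χ c = 1 := by
  classical
  set C := Subgroup.centralizer (sylG P : Set G) with hC
  have hdec : ∀ g : G, ∃ c ∈ C, ∃ n ∈ N, c * n = g := fun g => by
    have hg : g ∈ C ⊔ N := by rw [sup_comm, hcov]; exact Subgroup.mem_top g
    exact Subgroup.mem_sup_of_normal_right.1 hg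
  choose c hcC n hnN hcn using hdec
  have key : ∀ g, ∀ c' ∈ C, c'⁻¹ * g ∈ N → ratio M ψ (c g) = ratio M ψ c' := by
    intro g c' hc' hg
    have hgn : g * (n g)⁻¹ = c g := mul_inv_eq_iff_eq_mul.2 (hcn g).symm
    have e : c g = c' * (c'⁻¹ * g * (n g)⁻¹) := by
      rw [mul_assoc c'⁻¹, mul_inv_cancel_left, hgn]
    rw [e]
    refine ratio_mul_eq P hres hθ hM hc' (N.mul_mem hg (N.inv_mem (hnN g))) ?_
    have : c'⁻¹ * g * (n g)⁻¹ = c'⁻¹ * c g := by
      rw [mul_assoc c'⁻¹, hgn]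
    rw [this]
    exact mul_mem (inv_mem hc') (hcC g)
  have hne : ∀ x ∈ C, ratio M ψ x ≠ 0 := by
    intro x hx h0
    have := ratio_mul P hres hθ hM hx (inv_mem hx)
    rw [mul_inv_cancel, ratio_one, h0, zero_mul] at this
    exact one_ne_zero this
  let F : G →* kres M :=
    { toFun := fun g => ratio M ψ (c g)
      map_one' := by
        show ratio M ψ (c 1) = 1
        rw [key 1 1 C.one_mem (by simp), ratio_one]
      map_mul' := fun g h => by
        show ratio M ψ (c (g * h)) = _ * _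
        rw [← ratio_mul P hres hθ hM (hcC g) (hcC h)]
        refine key _ _ (mul_mem (hcC g) (hcC h)) ?_
        have e : (c g * c h)⁻¹ * (g * h) = (c h)⁻¹ * n g * (c h)⁻¹⁻¹ * n h := by
          nth_rewrite 2 [← hcn g, ← hcn h]; group
        rw [e]
        exact N.mul_mem (‹N.Normal›.conj_mem _ (hnN g) _) (hnN h) }
  obtain ⟨l, hl⟩ := exists_linear_lift hM F.toHomUnits
  let χ : IrrCharacter G := ⟨_, Chars.isIrrCharacter_linear_mul ψ.2 l⁻¹⟩
  have hlN : ∀ x : N, l (x : G) = 1 := by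
    intro x
    obtain ⟨-, hred, ε, hε, hεl⟩ := hl (x : G)
    have hF : (F.toHomUnits (x : G) : kres M) = 1 := by
      show ratio M ψ (c x) = 1
      rw [key x 1 C.one_mem (by simp), ratio_one]
    have hi := root_unique hM (ε₂ := 1) hε ⟨1, by simpa using hM.1.ne_one, by simp⟩
      (by rw [hεl, hred, hF, OneMemClass.coe_one, redC_one])
    refine Units.ext ?_
    rw [← hεl, hi]
    rfl
  refine ⟨χ, fun x => ?_, fun y hy => ?_⟩
  · show ((l⁻¹ (x : G) : ℂˣ) : ℂ) * (ψ : G → ℂ) x = _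
    rw [MonoidHom.inv_apply, hlN x, inv_one, Units.val_one, one_mul, hres]
  · obtain ⟨hloc, hred, -⟩ := hl y
    obtain ⟨hloc', hred', -⟩ := hl y⁻¹
    have hy' : (F.toHomUnits y⁻¹ : kres M) = ratio M ψ y⁻¹ :=
      key y⁻¹ y⁻¹ (inv_mem hy) (by simp)
    have hr := memLocalRing_ratio hres hθ hM (sylG P) (sylG_le P) (isPGroup_sylG P)
      (not_dvd_index_sylG P) hy
    have e : (χ : G → ℂ) y / (χ : G → ℂ) 1 =
        (l y⁻¹ : ℂ) * ((ψ : G → ℂ) y / (ψ : G → ℂ) 1) := by
      show ((l⁻¹ y : ℂˣ) : ℂ) * (ψ : G → ℂ) y / (((l⁻¹ 1 : ℂˣ) : ℂ) * (ψ : G → ℂ) 1) = _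
      rw [map_one, Units.val_one, one_mul, MonoidHom.inv_apply, ← map_inv, mul_div_assoc]
    show redC M ((χ : G → ℂ) y / (χ : G → ℂ) 1) = 1
    rw [e, redC_of_mem ((localRing M).mul_mem hloc' hr),
      show (⟨_, (localRing M).mul_mem hloc' hr⟩ : localRing M) = ⟨_, hloc'⟩ * ⟨_, hr⟩ from rfl,
      map_mul, ← redC_of_mem hloc', ← redC_of_mem hr, hred', hy']
    show ratio M ψ y⁻¹ * ratio M ψ y = 1
    rw [← ratio_mul P hres hθ hM (inv_mem hy) hy, inv_mul_cancel, ratio_one]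

/-- An extension with trivial ratios restricts into every principal block over `N`. -/
theorem mem_principalBlock_restrict (hM : IsPModular p M)
    (hres : ∀ x : N, (ψ : G → ℂ) x = (θ : N → ℂ) x) (hθ : θ ∈ principalBlock M N)
    (h1 : ∀ c ∈ Subgroup.centralizer (sylG P : Set G), ratio M ψ c = 1)
    (J : Subgroup G) (hNJ : N ≤ J) :
    ∃ ξ : IrrCharacter J, ξ ∈ principalBlock M J ∧ ∀ y : J, (ξ : J → ℂ) y = (ψ : G → ℂ) y := by
  classical
  have hirr : IsIrrCharacter J (fun y : J => (ψ : G → ℂ) y) :=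
    Chars.Quasiprimitive.isIrrCharacter_of_comp (Subgroup.inclusion hNJ)
      (Chars.isCharacter_restrict (Chars.isCharacter_coe ψ) J)
      (show IsIrrCharacter N (fun x : N => (ψ : G → ℂ) x) from isIrr_restrict hres)
  refine ⟨⟨_, hirr⟩, ?_, fun y => rfl⟩
  rw [mem_principalBlock_iff]
  intro y
  let S : Finset G := Finset.univ.filter fun g => ∃ j ∈ J, j * (y : G) * j⁻¹ = g
  let z : localElts M G := ⟨indElt S, indElt_mem S⟩
  have hS : ∀ n ∈ N, ∀ g : G, n * g * n⁻¹ ∈ S ↔ g ∈ S := by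
    intro n hn g
    simp only [S, Finset.mem_filter, Finset.mem_univ, true_and]
    constructor
    · rintro ⟨j, hj, h⟩
      exact ⟨n⁻¹ * j, J.mul_mem (J.inv_mem (hNJ hn)) hj,
        by rw [show n⁻¹ * j * (y : G) * (n⁻¹ * j)⁻¹ = n⁻¹ * (j * y * j⁻¹) * n by group, h]; group⟩
    · rintro ⟨j, hj, rfl⟩
      exact ⟨n * j, J.mul_mem (hNJ hn) hj, by group⟩
  have hz : IsInvariantElt N (z : GA G) := fun n hn g => by
    show (indElt S).coeff _ = (indElt S).coeff _
    rw [coeff_indElt, coeff_indElt]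
    exact if_congr (hS n hn g) rfl rfl
  have hcard : S.card = (Subgroup.centralizer ({y} : Set J)).index := by
    rw [← card_conjugates, Nat.card_eq_fintype_card, Fintype.card_subtype]
    refine (Finset.card_bij (fun (w : J) _ => (w : G)) (fun w hw => ?_)
      (fun _ _ _ _ h => Subtype.ext (by exact h)) fun g hg => ?_).symm
    · obtain ⟨u, hu⟩ := isConj_iff.1 (Finset.mem_filter.1 hw).2
      exact Finset.mem_filter.2 ⟨Finset.mem_univ _, u, u.2, congrArg Subtype.val hu⟩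
    · obtain ⟨j, hj, h⟩ := (Finset.mem_filter.1 hg).2
      exact ⟨⟨g, h ▸ J.mul_mem (J.mul_mem hj y.2) (J.inv_mem hj)⟩,
        Finset.mem_filter.2 ⟨Finset.mem_univ _, isConj_iff.2 ⟨⟨j, hj⟩, Subtype.ext h⟩⟩, rfl⟩
  have hom : omega (ψ : G → ℂ) (z : GA G) = centralChar (fun w : J => (ψ : G → ℂ) w) y := by
    show omega (ψ : G → ℂ) (indElt S) = _
    rw [omega_indElt, Finset.sum_congr rfl (g := fun _ => (ψ : G → ℂ) y / (ψ : G → ℂ) 1),
      Finset.sum_const, nsmul_eq_mul, hcard, centralChar, mul_div_assoc]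
    · rfl
    · intro g hg
      obtain ⟨j, -, rfl⟩ := (Finset.mem_filter.1 hg).2
      rw [Chars.isClassFunction_coe ψ (y : G) j]
  have hloc : MemLocalRing M (omega (ψ : G → ℂ) (z : GA G)) := by
    rw [hom]
    exact memLocalRing_of_isIntegral (centralChar_isIntegral hirr y)
  have hb := bar_eq_aug P hres hθ hM h1 z hz
  have haug : augA (kres M) G (reduceHom M G z) =
      ((Subgroup.centralizer ({y} : Set J)).index : kres M) := by
    rw [← hcard, augA_apply, Finset.sum_congr rfl (g := fun g => if g ∈ S then (1 : kres M) else 0)]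
    · simp
    · intro g _
      rw [coeff_reduceHom]
      have e : (indElt S).coeff g = if g ∈ S then 1 else 0 := coeff_indElt S g
      split_ifs with hg
      · rw [if_pos hg] at e; simp only [z, e]; exact map_one (res M)
      · rw [if_neg hg] at e; simp only [z, e]; exact map_zero (res M)
  rw [bar, haug, ← map_natCast (res M), redC_of_mem hloc, res_eq_res_iff] at hb
  show Congr M _ (centralChar (fun w : J => (ψ : G → ℂ) w) y)
  rw [← hom]
  have h2 := Congr.symm hb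
  simpa using h2

end CfsgLib.Blocks.PrincipalExtension
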